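import Cfsg.Agent.CosetEnum.Basic

/-! Certificate of a coset enumeration (generated data, owner: helper28). -/

set_option autoImplicit false
set_option maxRecDepth 1000000

namespace Cfsg.Agent.CosetEnum.ONSF4

noncomputable def tab : T := .l 0 0x1000009000011000090000120000900000000008fffffffffff0000100000a0000110000a0000120000a00000000007fffffffffff00000f000070000000000600000e000080000000000afffffffffff00000f000080000000000400000d0000500000000009fffffffffff00000c000040000000000800000b0000600000000004fffffffffff000009000050000000000300000d0000700000a00005fffffffffff00000c00006000000000070000000000300000000006fffffffffff00000800003000000000050000000000400000000002fffffffffff00000700002000006000020000000000100000000003fffffffffff00000000000000005000010000000000200000400001fffffffffff00000000001000003000000000020000000000100000fffffffffff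

def lw : WT := .e

def L : LL := .cons 1 1 (.n 1 (.l [4,1,4] []) (.l [3,1,3,1,3] [])) (.l [] []) ( .cons 2 2 (.n 1 (.l [3,2,3] []) (.n 2 (.l [1,2,1,2,1,2,1,2,1] []) (.l [1,3,2,1,3,2,1,3,2,1,3,2,1,3] []))) (.l [] []) ( .cons 3 3 (.n 1 (.l [4,3,4] []) (.n 2 (.l [2,3,2] []) (.l [1,3,1,3,1] []))) (.l [] []) ( .cons 4 4 (.n 2 (.n 1 (.l [2,4,2,4,2] []) (.l [1,4,1] [])) (.n 3 (.l [2,1,4,2,1,4,2,1,4,2,1,4,2,1] []) (.l [3,4,3] []))) (.e) ( .nil ))))

def iv : List (Nat × Nat) := []

def RL : List (List Nat × Nat) := [([1, 2], 5), ([1, 3], 3), ([1, 4], 2), ([2, 3], 2), ([2, 4], 3), ([3, 4], 2), ([3, 1, 2], 5), ([1, 2, 4], 5)]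

def subs : List (List Nat) := [[1], [2], [3]]

noncomputable def P : Par := ⟨tab, 220, 1684996666696914987166688442938726917102321526408785780068975640575, 11, icG 4 iv, lw⟩

end Cfsg.Agent.CosetEnum.ONSF4
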