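import Cfsg.Agent.CosetEnum.Basic

/-! Certificate of a coset enumeration (generated data, owner: helper28). -/

set_option autoImplicit false
set_option maxRecDepth 1000000

namespace Cfsg.Agent.CosetEnum.ONSKJ

noncomputable def tab : T := .l 0 0xffffffffffffffffffffffffffffffffffffffffffff0000000000900000c00009ffffffffffffffffffffffffffffffffffffffffffff0000000000800000900008ffffffffffffffffffffff00000000005fffffffffff0000000000b00000d00005fffffffffff00000800008fffffffffff000000000040000000000a00000a00004ffffffffffffffffffffffffffffffffffffffffffff0000000000300000600003ffffffffffffffffffffffffffffffffffffffffffff000000000020000040000200000000000fffffffffff00000000009fffffffffff0000030000500000e00000fffffffffff00000000000fffffffffff000000000080000020000400000b00000ffffffffffffffffffffff00000000000fffffffffff0000000000700000700000fffffffffffffffffffffffffffffffff000000000000000000000600000500000ffffffffffffffffffffffffffffffffffffffffffff00000000000000001000000000000000500000000004000000000030000000000200000000001fffffffffff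

def lw : WT := .n 3 (.n 1 (.l [1] []) (.n 2 (.l [2,1,2,1,2,1,2,1,2,1] []) (.l [3,1,3,1,3,1] []))) (.n 4 (.l [5,3,5,3,5,3,5,3,5,3] []) (.n 5 (.l [1,2,4,1,2,4,1,2,4,1,2,4,1,2,4] []) (.l [1,3,1,3,1,3] [])))

def L : LL := .cons 1 1 (.l [] []) (.e) ( .cons 2 2 (.e) (.e) ( .cons 3 3 (.e) (.e) ( .cons 4 4 (.l [2,4,2,4,2] []) (.e) ( .cons 5 5 (.e) (.e) ( .nil )))))

def iv : List (Nat × Nat) := []

def RL : List (List Nat × Nat) := [([1, 2], 5), ([1, 3], 3), ([1, 4], 2), ([1, 5], 2), ([2, 3], 2), ([2, 4], 3), ([2, 5], 2), ([3, 4], 2), ([3, 5], 5), ([4, 5], 2), ([3, 1, 2], 5), ([1, 2, 4], 5), ([5, 3, 1, 2, 1, 2, 4], 6), ([1], 1)]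

def subs : List (List Nat) := []

noncomputable def P : Par := ⟨tab, 264, 29642774844752946028434172162224104410437116074403984394101141506025761187823615, 12, icG 5 iv, lw⟩

end Cfsg.Agent.CosetEnum.ONSKJ
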