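import Cfsg.Agent.CosetEnum.Basic

/-! Words for subgroups of the O'Nan group (generated data, owner: helper28). -/

set_option autoImplicit false
set_option maxRecDepth 1000000

namespace Cfsg.Agent.CosetEnum.ONS

def wJ1 : List Nat := [1, 2, 3, 4, 2, 3, 8, 4, 6, 2, 3, 4, 3, 1, 2, 1, 2, 1, 3, 4, 3, 2, 6, 4, 7, 3, 2, 4, 3, 1, 2, 3, 4, 2, 3, 8, 4, 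
  6, 2, 3, 4, 3, 1, 2, 1, 2, 1, 3, 4, 3, 2, 6, 4, 7, 3, 2, 4, 3, 2, 1, 3, 4, 2, 3, 8, 4, 6, 2, 3, 4, 3, 1, 2, 1, 
  2, 1, 3, 4, 3, 2, 6, 4, 7, 3, 2, 4, 3, 1, 2, 3, 4, 2, 3, 8, 4, 6, 2, 3, 4, 3, 1, 2, 1, 2, 1, 3, 4, 3, 2, 6, 4, 
  7, 3, 2, 4, 3, 2, 1, 3, 4, 2, 3, 8, 4, 6, 2, 3, 4, 3, 1, 2, 1, 2, 1, 3, 4, 3, 2, 6, 4, 7, 3, 2, 4, 3, 1, 2, 3, 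
  4, 2, 3, 8, 4, 6, 2, 3, 4, 3, 1, 2, 1, 2, 1, 3, 4, 3, 2, 6, 4, 7, 3, 2, 4, 3, 1, 2, 3, 4, 2, 3, 8, 4, 6, 2, 3, 
  4, 3, 1, 2, 1, 2, 1, 3, 4, 3, 2, 6, 4, 7, 3, 2, 4, 3, 2, 1, 3, 4, 2, 3, 8, 4, 6, 2, 3, 4, 3, 1, 2, 1, 2, 1, 3, 
  4, 3, 2, 6, 4, 7, 3, 2, 4, 3, 1, 2, 3, 4, 2, 3, 8, 4, 6, 2, 3, 4, 3, 1, 2, 1, 2, 1, 3, 4, 3, 2, 6, 4, 7, 3, 2, 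
  4, 3, 2, 1, 3, 4, 2, 3, 8, 4, 6, 2, 3, 4, 3, 1, 2, 1, 2, 1, 3, 4, 3, 2, 6, 4, 7, 3, 2, 4, 3, 2, 1, 3, 4, 2, 3, 
  8, 4, 6, 2, 3, 4, 3, 1, 2, 1, 2, 1, 3, 4, 3, 2, 6, 4, 7, 3, 2, 4, 3, 1, 2, 3, 4, 2, 3, 8, 4, 6, 2, 3, 4, 3, 1, 
  2, 1, 2, 1, 3, 4, 3, 2, 6, 4, 7, 3, 2, 4, 3, 2, 1, 3, 4, 2, 3, 8, 4, 6, 2, 3, 4, 3, 1, 2, 1, 2, 1, 3, 4, 3, 2, 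
  6, 4, 7, 3, 2, 4, 3, 1, 2, 3, 4, 2, 3, 8, 4, 6, 2, 3, 4, 3, 1, 2, 1, 2, 1, 3, 4, 3, 2, 6, 4, 7, 3, 2, 4, 3, 2, 
  1, 3, 4, 2, 3, 8, 4, 6, 2, 3, 4, 3, 1, 2, 1, 2, 1, 3, 4, 3, 2, 6, 4, 7, 3, 2, 4, 3, 2, 1]

def wJ2 : List Nat := [1, 2, 3, 4, 2, 3, 8, 4, 6, 2, 3, 4, 3, 1, 2, 1, 2, 1, 3, 4, 3, 2, 6, 4, 7, 3, 2, 4, 3, 2, 1, 3, 4, 2, 3, 8, 4, 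
  6, 2, 3, 4, 3, 1, 2, 1, 2, 1, 3, 4, 3, 2, 6, 4, 7, 3, 2, 4, 3, 2, 1, 3, 4, 2, 3, 8, 4, 6, 2, 3, 4, 3, 1, 2, 1, 
  2, 1, 3, 4, 3, 2, 6, 4, 7, 3, 2, 4, 3, 1, 2, 3, 4, 2, 3, 8, 4, 6, 2, 3, 4, 3, 1, 2, 1, 2, 1, 3, 4, 3, 2, 6, 4, 
  7, 3, 2, 4, 3, 2, 1, 3, 4, 2, 3, 8, 4, 6, 2, 3, 4, 3, 1, 2, 1, 2, 1, 3, 4, 3, 2, 6, 4, 7, 3, 2, 4, 3, 1, 2, 3, 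
  4, 2, 3, 8, 4, 6, 2, 3, 4, 3, 1, 2, 1, 2, 1, 3, 4, 3, 2, 6, 4, 7, 3, 2, 4, 3, 1, 2, 3, 4, 2, 3, 8, 4, 6, 2, 3, 
  4, 3, 1, 2, 1, 2, 1, 3, 4, 3, 2, 6, 4, 7, 3, 2, 4, 3, 2, 1, 3, 4, 2, 3, 8, 4, 6, 2, 3, 4, 3, 1, 2, 1, 2, 1, 3, 
  4, 3, 2, 6, 4, 7, 3, 2, 4, 3, 1, 2, 3, 4, 2, 3, 8, 4, 6, 2, 3, 4, 3, 1, 2, 1, 2, 1, 3, 4, 3, 2, 6, 4, 7, 3, 2, 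
  4, 3, 2, 1, 3, 4, 2, 3, 8, 4, 6, 2, 3, 4, 3, 1, 2, 1, 2, 1, 3, 4, 3, 2, 6, 4, 7, 3, 2, 4, 3, 2, 1, 3, 4, 2, 3, 
  8, 4, 6, 2, 3, 4, 3, 1, 2, 1, 2, 1, 3, 4, 3, 2, 6, 4, 7, 3, 2, 4, 3, 2, 1, 3, 4, 2, 3, 8, 4, 6, 2, 3, 4, 3, 1, 
  2, 1, 2, 1, 3, 4, 3, 2, 6, 4, 7, 3, 2, 4, 3, 1, 2, 3, 4, 2, 3, 8, 4, 6, 2, 3, 4, 3, 1, 2, 1, 2, 1, 3, 4, 3, 2, 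
  6, 4, 7, 3, 2, 4, 3, 1, 2, 3, 4, 2, 3, 8, 4, 6, 2, 3, 4, 3, 1, 2, 1, 2, 1, 3, 4, 3, 2, 6, 4, 7, 3, 2, 4, 3, 1, 
  2, 3, 4, 2, 3, 8, 4, 6, 2, 3, 4, 3, 1, 2, 1, 2, 1, 3, 4, 3, 2, 6, 4, 7, 3, 2, 4, 3, 2, 1, 3, 4, 2, 3, 8, 4, 6, 
  2, 3, 4, 3, 1, 2, 1, 2, 1, 3, 4, 3, 2, 6, 4, 7, 3, 2, 4, 3, 1, 2, 3, 4, 2, 3, 8, 4, 6, 2, 3, 4, 3, 1, 2, 1, 2, 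
  1, 3, 4, 3, 2, 6, 4, 7, 3, 2, 4, 3, 2, 1, 3, 4, 2, 3, 8, 4, 6, 2, 3, 4, 3, 1, 2, 1, 2, 1, 3, 4, 3, 2, 6, 4, 7, 
  3, 2, 4, 3, 2, 1, 3, 4, 2, 3, 8, 4, 6, 2, 3, 4, 3, 1, 2, 1, 2, 1, 3, 4, 3, 2, 6, 4, 7, 3, 2, 4, 3, 1, 2, 3, 4, 
  2, 3, 8, 4, 6, 2, 3, 4, 3, 1, 2, 1, 2, 1, 3, 4, 3, 2, 6, 4, 7, 3, 2, 4, 3, 2, 1, 3, 4, 2, 3, 8, 4, 6, 2, 3, 4, 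
  3, 1, 2, 1, 2, 1, 3, 4, 3, 2, 6, 4, 7, 3, 2, 4, 3, 1, 2, 3, 4, 2, 3, 8, 4, 6, 2, 3, 4, 3, 1, 2, 1, 2, 1, 3, 4, 
  3, 2, 6, 4, 7, 3, 2, 4, 3, 1, 2, 3, 4, 2, 3, 8, 4, 6, 2, 3, 4, 3, 1, 2, 1, 2, 1, 3, 4, 3, 2, 6, 4, 7, 3, 2, 4, 
  3, 2, 1]

def wJ3 : List Nat := [3, 4, 2, 3, 8, 4, 6, 2, 3, 4, 3, 1, 2, 1, 2, 1, 3, 4, 3, 2, 6, 4, 7, 3, 2, 4, 3, 1, 2, 3, 4, 2, 3, 8, 4, 6, 2, 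
  3, 4, 3, 1, 2, 1, 2, 1, 3, 4, 3, 2, 6, 4, 7, 3, 2, 4, 3, 1, 2, 3, 4, 2, 3, 8, 4, 6, 2, 3, 4, 3, 1, 2, 1, 2, 1, 
  3, 4, 3, 2, 6, 4, 7, 3, 2, 4, 3, 2, 1, 3, 4, 2, 3, 8, 4, 6, 2, 3, 4, 3, 1, 2, 1, 2, 1, 3, 4, 3, 2, 6, 4, 7, 3, 
  2, 4, 3, 2, 1, 3, 4, 2, 3, 8, 4, 6, 2, 3, 4, 3, 1, 2, 1, 2, 1, 3, 4, 3, 2, 6, 4, 7, 3, 2, 4, 3, 1, 2, 3, 4, 2, 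
  3, 8, 4, 6, 2, 3, 4, 3, 1, 2, 1, 2, 1, 3, 4, 3, 2, 6, 4, 7, 3, 2, 4, 3, 1, 2, 3, 4, 2, 3, 8, 4, 6, 2, 3, 4, 3, 
  1, 2, 1, 2, 1, 3, 4, 3, 2, 6, 4, 7, 3, 2, 4, 3, 2, 1, 3, 4, 2, 3, 8, 4, 6, 2, 3, 4, 3, 1, 2, 1, 2, 1, 3, 4, 3, 
  2, 6, 4, 7, 3, 2, 4, 3, 1, 2, 3, 4, 2, 3, 8, 4, 6, 2, 3, 4, 3, 1, 2, 1, 2, 1, 3, 4, 3, 2, 6, 4, 7, 3, 2, 4, 3, 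
  2, 1, 3, 4, 2, 3, 8, 4, 6, 2, 3, 4, 3, 1, 2, 1, 2, 1, 3, 4, 3, 2, 6, 4, 7, 3, 2, 4, 3, 2, 1, 3, 4, 2, 3, 8, 4, 
  6, 2, 3, 4, 3, 1, 2, 1, 2, 1, 3, 4, 3, 2, 6, 4, 7, 3, 2, 4, 3, 1, 2, 3, 4, 2, 3, 8, 4, 6, 2, 3, 4, 3, 1, 2, 1, 
  2, 1, 3, 4, 3, 2, 6, 4, 7, 3, 2, 4, 3, 1, 2, 3, 4, 2, 3, 8, 4, 6, 2, 3, 4, 3, 1, 2, 1, 2, 1, 3, 4, 3, 2, 6, 4, 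
  7, 3, 2, 4, 3, 2, 1, 3, 4, 2, 3, 8, 4, 6, 2, 3, 4, 3, 1, 2, 1, 2, 1, 3, 4, 3, 2, 6, 4, 7, 3, 2, 4, 3, 1, 2, 3, 
  4, 2, 3, 8, 4, 6, 2, 3, 4, 3, 1, 2, 1, 2, 1, 3, 4, 3, 2, 6, 4, 7, 3, 2, 4, 3, 2, 1, 3, 4, 2, 3, 8, 4, 6, 2, 3, 
  4, 3, 1, 2, 1, 2, 1, 3, 4, 3, 2, 6, 4, 7, 3, 2, 4, 3, 2, 1, 3, 4, 2, 3, 8, 4, 6, 2, 3, 4, 3, 1, 2, 1, 2, 1, 3, 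
  4, 3, 2, 6, 4, 7, 3, 2, 4, 3, 1, 2, 3, 4, 2, 3, 8, 4, 6, 2, 3, 4, 3, 1, 2, 1, 2, 1, 3, 4, 3, 2, 6, 4, 7, 3, 2, 
  4, 3, 1, 2, 3, 4, 2, 3, 8, 4, 6, 2, 3, 4, 3, 1, 2, 1, 2, 1, 3, 4, 3, 2, 6, 4, 7, 3, 2, 4, 3, 2, 1, 3, 4, 2, 3, 
  8, 4, 6, 2, 3, 4, 3, 1, 2, 1, 2, 1, 3, 4, 3, 2, 6, 4, 7, 3, 2, 4, 3, 2, 1, 3, 4, 2, 3, 8, 4, 6, 2, 3, 4, 3, 1, 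
  2, 1, 2, 1, 3, 4, 3, 2, 6, 4, 7, 3, 2, 4, 3]

def wJ4 : List Nat := [2, 1, 3, 4, 2, 3, 8, 4, 6, 2, 3, 4, 3, 1, 2, 1, 2, 1, 3, 4, 3, 2, 6, 4, 7, 3, 2, 4, 3, 1, 2, 3, 4, 2, 3, 8, 4, 
  6, 2, 3, 4, 3, 1, 2, 1, 2, 1, 3, 4, 3, 2, 6, 4, 7, 3, 2, 4, 3, 1, 2, 3, 4, 2, 3, 8, 4, 6, 2, 3, 4, 3, 1, 2, 1, 
  2, 1, 3, 4, 3, 2, 6, 4, 7, 3, 2, 4, 3, 2, 1, 3, 4, 2, 3, 8, 4, 6, 2, 3, 4, 3, 1, 2, 1, 2, 1, 3, 4, 3, 2, 6, 4, 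
  7, 3, 2, 4, 3, 1, 2, 3, 4, 2, 3, 8, 4, 6, 2, 3, 4, 3, 1, 2, 1, 2, 1, 3, 4, 3, 2, 6, 4, 7, 3, 2, 4, 3, 2, 1, 3, 
  4, 2, 3, 8, 4, 6, 2, 3, 4, 3, 1, 2, 1, 2, 1, 3, 4, 3, 2, 6, 4, 7, 3, 2, 4, 3, 2, 1, 3, 4, 2, 3, 8, 4, 6, 2, 3, 
  4, 3, 1, 2, 1, 2, 1, 3, 4, 3, 2, 6, 4, 7, 3, 2, 4, 3, 1, 2]

def wJ5 : List Nat := [2, 1, 3, 4, 2, 3, 8, 4, 6, 2, 3, 4, 3, 1, 2, 1, 2, 1, 3, 4, 3, 2, 6, 4, 7, 3, 2, 4, 3, 2, 1, 3, 4, 2, 3, 8, 4, 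
  6, 2, 3, 4, 3, 1, 2, 1, 2, 1, 3, 4, 3, 2, 6, 4, 7, 3, 2, 4, 3, 1, 2, 3, 4, 2, 3, 8, 4, 6, 2, 3, 4, 3, 1, 2, 1, 
  2, 1, 3, 4, 3, 2, 6, 4, 7, 3, 2, 4, 3, 2, 1, 3, 4, 2, 3, 8, 4, 6, 2, 3, 4, 3, 1, 2, 1, 2, 1, 3, 4, 3, 2, 6, 4, 
  7, 3, 2, 4, 3, 1, 2, 3, 4, 2, 3, 8, 4, 6, 2, 3, 4, 3, 1, 2, 1, 2, 1, 3, 4, 3, 2, 6, 4, 7, 3, 2, 4, 3, 1, 2, 3, 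
  4, 2, 3, 8, 4, 6, 2, 3, 4, 3, 1, 2, 1, 2, 1, 3, 4, 3, 2, 6, 4, 7, 3, 2, 4, 3, 2, 1, 3, 4, 2, 3, 8, 4, 6, 2, 3, 
  4, 3, 1, 2, 1, 2, 1, 3, 4, 3, 2, 6, 4, 7, 3, 2, 4, 3, 1, 2, 3, 4, 2, 3, 8, 4, 6, 2, 3, 4, 3, 1, 2, 1, 2, 1, 3, 
  4, 3, 2, 6, 4, 7, 3, 2, 4, 3, 2, 1, 3, 4, 2, 3, 8, 4, 6, 2, 3, 4, 3, 1, 2, 1, 2, 1, 3, 4, 3, 2, 6, 4, 7, 3, 2, 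
  4, 3, 1, 2, 3, 4, 2, 3, 8, 4, 6, 2, 3, 4, 3, 1, 2, 1, 2, 1, 3, 4, 3, 2, 6, 4, 7, 3, 2, 4, 3, 2, 1, 3, 4, 2, 3, 
  8, 4, 6, 2, 3, 4, 3, 1, 2, 1, 2, 1, 3, 4, 3, 2, 6, 4, 7, 3, 2, 4, 3, 1, 2, 3, 4, 2, 3, 8, 4, 6, 2, 3, 4, 3, 1, 
  2, 1, 2, 1, 3, 4, 3, 2, 6, 4, 7, 3, 2, 4, 3, 2, 1, 3, 4, 2, 3, 8, 4, 6, 2, 3, 4, 3, 1, 2, 1, 2, 1, 3, 4, 3, 2, 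
  6, 4, 7, 3, 2, 4, 3, 1, 2, 3, 4, 2, 3, 8, 4, 6, 2, 3, 4, 3, 1, 2, 1, 2, 1, 3, 4, 3, 2, 6, 4, 7, 3, 2, 4, 3, 2, 
  1, 3, 4, 2, 3, 8, 4, 6, 2, 3, 4, 3, 1, 2, 1, 2, 1, 3, 4, 3, 2, 6, 4, 7, 3, 2, 4, 3, 2, 1, 3, 4, 2, 3, 8, 4, 6, 
  2, 3, 4, 3, 1, 2, 1, 2, 1, 3, 4, 3, 2, 6, 4, 7, 3, 2, 4, 3, 1, 2, 3, 4, 2, 3, 8, 4, 6, 2, 3, 4, 3, 1, 2, 1, 2, 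
  1, 3, 4, 3, 2, 6, 4, 7, 3, 2, 4, 3, 2, 1, 3, 4, 2, 3, 8, 4, 6, 2, 3, 4, 3, 1, 2, 1, 2, 1, 3, 4, 3, 2, 6, 4, 7, 
  3, 2, 4, 3, 1, 2, 3, 4, 2, 3, 8, 4, 6, 2, 3, 4, 3, 1, 2, 1, 2, 1, 3, 4, 3, 2, 6, 4, 7, 3, 2, 4, 3, 1, 2]

/-- the words of the letters -/
def wJ (x : Nat) : List Nat :=
  match x with
  | 1 => wJ1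
  | 2 => wJ2
  | 3 => wJ3
  | 4 => wJ4
  | 5 => wJ5
  | _ => []

def wM1 : List Nat := [6, 3, 4, 2, 3, 4, 2, 8, 6, 2, 3, 4, 3, 2, 1, 2, 3, 4, 3, 2, 6, 7, 2, 4, 3, 2, 4, 3, 6]

def wM2 : List Nat := [8, 6, 3, 4, 2, 3, 4, 2, 8, 6, 2, 3, 4, 3, 2, 1, 2, 3, 4, 3, 2, 6, 7, 2, 4, 3, 2, 4, 3, 6, 8, 6, 3, 4, 2, 3, 4, 
  2, 8, 6, 2, 3, 4, 3, 2, 1, 2, 3, 4, 3, 2, 6, 7, 2, 4, 3, 2, 4, 3, 6, 8, 6, 3, 4, 2, 3, 4, 2, 8, 6, 2, 3, 4, 3, 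
  2, 1, 2, 3, 4, 3, 2, 6, 7, 2, 4, 3, 2, 4, 3, 6, 7, 6, 3, 4, 2, 3, 4, 2, 8, 6, 2, 3, 4, 3, 2, 1, 2, 3, 4, 3, 2, 
  6, 7, 2, 4, 3, 2, 4, 3, 6, 7, 6, 3, 4, 2, 3, 4, 2, 8, 6, 2, 3, 4, 3, 2, 1, 2, 3, 4, 3, 2, 6, 7, 2, 4, 3, 2, 4, 
  3, 6, 7]

def wM3 : List Nat := [8, 6, 3, 4, 2, 3, 4, 2, 8, 6, 2, 3, 4, 3, 2, 1, 2, 3, 4, 3, 2, 6, 7, 2, 4, 3, 2, 4, 3, 6, 7, 6, 3, 4, 2, 3, 4, 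
  2, 8, 6, 2, 3, 4, 3, 2, 1, 2, 3, 4, 3, 2, 6, 7, 2, 4, 3, 2, 4, 3, 6, 8, 6, 3, 4, 2, 3, 4, 2, 8, 6, 2, 3, 4, 3, 
  2, 1, 2, 3, 4, 3, 2, 6, 7, 2, 4, 3, 2, 4, 3, 6, 8, 8, 6, 3, 4, 2, 3, 4, 2, 8, 6, 2, 3, 4, 3, 2, 1, 2, 3, 4, 3, 
  2, 6, 7, 2, 4, 3, 2, 4, 3, 6, 7, 7, 6, 3, 4, 2, 3, 4, 2, 8, 6, 2, 3, 4, 3, 2, 1, 2, 3, 4, 3, 2, 6, 7, 2, 4, 3, 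
  2, 4, 3, 6, 7, 6, 3, 4, 2, 3, 4, 2, 8, 6, 2, 3, 4, 3, 2, 1, 2, 3, 4, 3, 2, 6, 7, 2, 4, 3, 2, 4, 3, 6, 8, 6, 3, 
  4, 2, 3, 4, 2, 8, 6, 2, 3, 4, 3, 2, 1, 2, 3, 4, 3, 2, 6, 7, 2, 4, 3, 2, 4, 3, 6, 7]

def wM4 : List Nat := [7, 6, 3, 4, 2, 3, 4, 2, 8, 6, 2, 3, 4, 3, 2, 1, 2, 3, 4, 3, 2, 6, 7, 2, 4, 3, 2, 4, 3, 6, 7, 6, 3, 4, 2, 3, 4, 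
  2, 8, 6, 2, 3, 4, 3, 2, 1, 2, 3, 4, 3, 2, 6, 7, 2, 4, 3, 2, 4, 3, 6, 8, 6, 3, 4, 2, 3, 4, 2, 8, 6, 2, 3, 4, 3, 
  2, 1, 2, 3, 4, 3, 2, 6, 7, 2, 4, 3, 2, 4, 3, 6, 8, 6, 3, 4, 2, 3, 4, 2, 8, 6, 2, 3, 4, 3, 2, 1, 2, 3, 4, 3, 2, 
  6, 7, 2, 4, 3, 2, 4, 3, 6, 7, 6, 3, 4, 2, 3, 4, 2, 8, 6, 2, 3, 4, 3, 2, 1, 2, 3, 4, 3, 2, 6, 7, 2, 4, 3, 2, 4, 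
  3, 6, 7, 6, 3, 4, 2, 3, 4, 2, 8, 6, 2, 3, 4, 3, 2, 1, 2, 3, 4, 3, 2, 6, 7, 2, 4, 3, 2, 4, 3, 6, 8, 6, 3, 4, 2, 
  3, 4, 2, 8, 6, 2, 3, 4, 3, 2, 1, 2, 3, 4, 3, 2, 6, 7, 2, 4, 3, 2, 4, 3, 6, 8]

def wM5 : List Nat := [6, 3, 4, 2, 3, 4, 2, 8, 6, 2, 3, 4, 3, 2, 1, 2, 3, 4, 3, 2, 6, 7, 2, 4, 3, 2, 4, 3, 6, 8, 8, 6, 3, 4, 2, 3, 4, 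
  2, 8, 6, 2, 3, 4, 3, 2, 1, 2, 3, 4, 3, 2, 6, 7, 2, 4, 3, 2, 4, 3, 6, 8, 6, 3, 4, 2, 3, 4, 2, 8, 6, 2, 3, 4, 3, 
  2, 1, 2, 3, 4, 3, 2, 6, 7, 2, 4, 3, 2, 4, 3, 6, 8, 8, 6, 3, 4, 2, 3, 4, 2, 8, 6, 2, 3, 4, 3, 2, 1, 2, 3, 4, 3, 
  2, 6, 7, 2, 4, 3, 2, 4, 3, 6, 7, 7, 6, 3, 4, 2, 3, 4, 2, 8, 6, 2, 3, 4, 3, 2, 1, 2, 3, 4, 3, 2, 6, 7, 2, 4, 3, 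
  2, 4, 3, 6, 7, 6, 3, 4, 2, 3, 4, 2, 8, 6, 2, 3, 4, 3, 2, 1, 2, 3, 4, 3, 2, 6, 7, 2, 4, 3, 2, 4, 3, 6, 7, 7, 6, 
  3, 4, 2, 3, 4, 2, 8, 6, 2, 3, 4, 3, 2, 1, 2, 3, 4, 3, 2, 6, 7, 2, 4, 3, 2, 4, 3, 6]

/-- the words of the letters -/
def wM (x : Nat) : List Nat :=
  match x with
  | 1 => wM1
  | 2 => wM2
  | 3 => wM3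
  | 4 => wM4
  | 5 => wM5
  | _ => []

end Cfsg.Agent.CosetEnum.ONS
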